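import Groth.Agent.FlatDim.BaseChange
import Groth.Agent.DimTheory.LocClosed
import Groth.Agent.FieldExtDim.Equidim
import Mathlib.AlgebraicGeometry.IdealSheaf.Subscheme
import Mathlib.AlgebraicGeometry.PullbackCarrier

/-!
# Dimensions of components of products and field base changes
-/

set_option autoImplicit false
set_option backward.isDefEq.respectTransparency false
set_option backward.isDefEq.respectTransparency.types false

universe u

open CategoryTheory CategoryTheory.Limits AlgebraicGeometry TopologicalSpace

namespace Groth.Agent.BCDim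

open DimTheory FlatDim

variable {k : Type u} [Field k]

lemma flat_toField {X : Scheme.{u}} (f : X ⟶ Spec (CommRingCat.of k)) : Flat f := by
  haveI : Subsingleton ↥(Spec (CommRingCat.of k)) := inferInstanceAs (Subsingleton (PrimeSpectrum k))
  infer_instance

lemma dim_eq_height_genericPoint {X : Scheme.{u}} [IrreducibleSpace X] :
    topologicalKrullDim X = (Order.height (genericPoint X) : WithBot ℕ∞) := by
  rw [← topologicalKrullDim_closure, genericPoint_closure]
  exact ((Homeomorph.Set.univ ↥X).isHomeomorph.topologicalKrullDim_eq _).symm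

variable {X Y : Scheme.{u}} (f : X ⟶ Spec (CommRingCat.of k)) (g : Y ⟶ Spec (CommRingCat.of k))

/-- The height of a maximal point in a fibre of the projection from a product with irreducible `Y`. -/
theorem height_fibre [LocallyOfFiniteType g] [IrreducibleSpace Y] (x : X)
    (z : (pullback.fst f g).fiber x) (hz : ∀ w, w ⤳ z → w = z) :
    Order.height z = Order.height (genericPoint Y) := by
  refine fibre_height_baseChange g (IsPullback.of_hasPullback f g).flip x _ (fun v hv => ?_) z hz
  have hvmax : ∀ w, w ⤳ g.fiberι (f x) v → w = g.fiberι (f x) v := fun w hw => by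
    haveI : Subsingleton ↥(Spec (CommRingCat.of k)) := inferInstanceAs (Subsingleton (PrimeSpectrum k))
    exact eq_fiberι_of_isMax g hv hw (Subsingleton.elim _ _)
  have h := height_fiberι g (𝟙 _) (f x) v
  obtain ⟨n, hn, hn'⟩ := exists_height_eq (𝟙 (Spec (CommRingCat.of k))) (f x)
  rw [resTrdeg_id] at hn
  rw [eq_genericPoint hvmax, hn', ← Nat.cast_injective (R := Cardinal.{u}) (Nat.cast_zero.trans hn),
    Nat.cast_zero, zero_add] at h
  exact h.symm

/-- Components of a product of irreducible schemes. -/
theorem dim_component_product [LocallyOfFiniteType f] [LocallyOfFiniteType g] [IrreducibleSpace X]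
    [IrreducibleSpace Y] (Z : Set ↥(pullback f g)) (hZ : Z ∈ irreducibleComponents ↥(pullback f g)) :
    topologicalKrullDim ↥Z = topologicalKrullDim ↥X + topologicalKrullDim ↥Y := by
  haveI := flat_toField g
  refine (forall_components_iff _).2 (fun ξ hξ => ?_) Z hZ
  have hmax : ∀ w, w ⤳ (pullback.fst f g).asFiber ξ → w = (pullback.fst f g).asFiber ξ := fun w hw =>
    ((pullback.fst f g).fiberι _).isEmbedding.injective (by
      rw [Scheme.Hom.fiberι_asFiber]
      exact hξ _ (by simpa using hw.map ((pullback.fst f g).fiberι _).continuous))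
  have := height_fiberι (pullback.fst f g) f (pullback.fst f g ξ) ((pullback.fst f g).asFiber ξ)
  rw [Scheme.Hom.fiberι_asFiber, height_fibre f g _ _ hmax,
    eq_genericPoint (isMax_image (pullback.fst f g) hξ)] at this
  rw [this, dim_eq_height_genericPoint, dim_eq_height_genericPoint]
  rfl

variable {K : Type u} [Field K] [Algebra k K]

local notation "π" => pullback.fst f (Spec.map (CommRingCat.ofHom (algebraMap k K)))

/-- A component of the base change has the dimension of the closure of its image, a component. -/
theorem exists_component [LocallyOfFiniteType f]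
    (W : Set ↥(pullback f (Spec.map (CommRingCat.ofHom (algebraMap k K)))))
    (hW : W ∈ irreducibleComponents ↥(pullback f (Spec.map (CommRingCat.ofHom (algebraMap k K))))) :
    ∃ x : X, (∀ y, y ⤳ x → y = x) ∧ topologicalKrullDim ↥W = topologicalKrullDim ↥(closure ({x} : Set X)) := by
  obtain ⟨h1, h2⟩ := FieldExtDim.height_of_isMax f hW.1.genericPoint (mem_component_isMax hW)
  refine ⟨π hW.1.genericPoint, h1, ?_⟩
  rw [topologicalKrullDim_closure, ← h2, ← topologicalKrullDim_closure, component_eq_closure hW]

theorem exists_component_over [LocallyOfFiniteType f] {x : X} (hx : ∀ y, y ⤳ x → y = x) :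
    ∃ W ∈ irreducibleComponents ↥(pullback f (Spec.map (CommRingCat.ofHom (algebraMap k K)))),
      topologicalKrullDim ↥W = topologicalKrullDim ↥(closure ({x} : Set X)) := by
  haveI : Surjective (Spec.map (CommRingCat.ofHom (algebraMap k K))) := by
    haveI : Subsingleton ↥(Spec (CommRingCat.of k)) := inferInstanceAs (Subsingleton (PrimeSpectrum k))
    exact ⟨fun p => ⟨IsLocalRing.closedPoint K, Subsingleton.elim _ _⟩⟩
  haveI : Surjective π := MorphismProperty.pullback_fst _ _ inferInstance
  obtain ⟨z, hz⟩ := (π).surjective x
  obtain ⟨m, hmz, hm⟩ := FlatMorLib.exists_maximal_generization z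
  obtain ⟨-, h2⟩ := FieldExtDim.height_of_isMax f m hm
  refine ⟨closure {m}, FlatDim.closure_mem_irreducibleComponents hm, ?_⟩
  rw [topologicalKrullDim_closure, topologicalKrullDim_closure, h2,
    hx (π m) (hz ▸ hmz.map (π).continuous)]

/-- Components of the preimage of an irreducible closed subset under a field base change. -/
theorem dim_component_preimage_bc [LocallyOfFiniteType f] {Z : Set X} (hZc : IsClosed Z) (hZi : IsIrreducible Z)
    (W : Set ↥(⇑π ⁻¹' Z)) (hW : W ∈ irreducibleComponents ↥(⇑π ⁻¹' Z)) :
    topologicalKrullDim ↥W = topologicalKrullDim ↥Z := by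
  let I := Scheme.IdealSheafData.vanishingIdeal ⟨Z, hZc⟩
  let i := I.subschemeι
  have hi : Set.range i = Z := by
    rw [Scheme.IdealSheafData.range_subschemeι, Scheme.IdealSheafData.coe_support_vanishingIdeal]
    rfl
  let hs := Spec.map (CommRingCat.ofHom (algebraMap k K))
  haveI : LocallyOfFiniteType (i ≫ f) := MorphismProperty.comp_mem _ _ _ inferInstance inferInstance
  let e := pullbackRightPullbackFstIso f hs i
  let j := e.inv ≫ pullback.snd i (pullback.fst f hs)
  haveI : IsClosedImmersion (pullback.snd i (pullback.fst f hs)) :=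
    MorphismProperty.pullback_snd _ _ inferInstance
  haveI : IsClosedImmersion j := inferInstance
  have hj : Set.range j = ⇑π ⁻¹' Z := by
    rw [Scheme.Hom.comp_base, TopCat.coe_comp, Set.range_comp,
      Set.range_eq_univ.2 e.inv.surjective, Set.image_univ]
    exact (Scheme.Pullback.range_snd i (pullback.fst f hs)).trans (by rw [hi])
  have hh := j.isEmbedding.toHomeomorph.trans (Homeomorph.setCongr hj)
  haveI : IrreducibleSpace I.subscheme := by
    have e := i.isEmbedding.toHomeomorph.trans (Homeomorph.setCongr hi)
    haveI : IrreducibleSpace ↥Z := isIrreducible_iff_irreducibleSpace.1 hZi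
    exact Function.Surjective.irreducibleSpace (f := ⇑e.symm) (hfc := e.symm.continuous) (hf := e.symm.surjective)
  have hdimZ : topologicalKrullDim ↥Z = topologicalKrullDim I.subscheme :=
    ((i.isEmbedding.toHomeomorph.trans (Homeomorph.setCongr hi)).isHomeomorph.topologicalKrullDim_eq _).symm
  have hW' : hh ⁻¹' W ∈ irreducibleComponents ↥(pullback (i ≫ f) hs) :=
    preimage_mem_irreducibleComponents hW hh.isOpenEmbedding (by simp [hW.1.nonempty])
  obtain ⟨x, hx, hd⟩ := exists_component (i ≫ f) _ hW'
  rw [eq_genericPoint hx, topologicalKrullDim_closure, ← dim_eq_height_genericPoint, ← hdimZ] at hd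
  rw [← hd]
  exact ((hh.sets rfl).isHomeomorph.topologicalKrullDim_eq _).symm

end Groth.Agent.BCDim
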